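import Groth.Agent.Lib.FlatTwist13.H0Flat

/-!
# `H⁰` is flat when the higher cohomology is flat and lives in degree one
-/

set_option autoImplicit false
set_option linter.style.haveILetI false
set_option maxHeartbeats 1000000

universe u

open CategoryTheory CategoryTheory.Limits AlgebraicGeometry TopologicalSpace Opposite

noncomputable section

namespace Groth.Agent.H0Proj1

open Groth.Agent.CohFound Groth.Agent.CBC10 Groth.Agent.DMod Groth.Agent.FlatCxLib

/-- If a complex of flat modules in degrees `≥ 0` is universally exact in high degrees and exact in degrees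
`≥ 2`, and `H¹` is flat, then `H⁰` is flat. -/
theorem flat_homology_zero {A : Type u} [CommRing A] {E : CochainComplex (ModuleCat.{u} A) ℤ}
    (hF : ∀ i, Module.Flat A (E.X i)) {b : ℤ} (hu : ∀ j, b < j → UnivExactAt E j)
    (hac : ∀ p, 1 < p → E.ExactAt p) (h0 : IsZero (E.X (-1))) (h1 : Module.Flat A (E.homology 1)) :
    Module.Flat A (E.homology 0) := by
  have hflat : ∀ p : ℤ, 1 ≤ p → Module.Flat A (LinearMap.ker (cd E p (p + 1))) := by
    suffices ∀ (n : ℕ) (p : ℤ), 1 ≤ p → b + 1 ≤ p + n → Module.Flat A (LinearMap.ker (cd E p (p + 1))) from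
      fun p hp => this (b + 1 - p).toNat p hp (by omega)
    intro n
    induction n with
    | zero => exact fun p _ hp => flat_ker_of_univExact hF (hu p (by omega))
    | succ n ih =>
      intro p h0p hp
      have := ih (p + 1) (by omega) (by omega)
      have := flat_ker_of_surjective (toKer_surjective E (i := p) rfl rfl (hac (p + 1) (by omega)))
      rwa [ker_toKer] at this
  let g : ∀ i : ℤ, E.cycles i →ₗ[A] LinearMap.ker (cd E i (i + 1)) := fun i =>
    (E.iCycles i).hom.codRestrict _ fun z => d_iCycles i (i + 1) z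
  have hg : ∀ i, Function.Bijective (g i) := fun i => by
    refine ⟨fun a c h => iCycles_injective E i (congrArg Subtype.val h), fun x => ?_⟩
    obtain ⟨z, hz⟩ := exists_cycle (K := E) (CochainComplex.next ℤ i) x.1 x.2
    exact ⟨z, Subtype.ext hz⟩
  -- the boundaries in degree one
  haveI := hflat 1 le_rfl
  let q : LinearMap.ker (cd E 1 (1 + 1)) →ₗ[A] E.homology 1 :=
    (E.homologyπ 1).hom ∘ₗ (LinearEquiv.ofBijective (g 1) (hg 1)).symm.toLinearMap
  have hq : Function.Surjective q :=
    (homologyπ_surjective E 1).comp (LinearEquiv.ofBijective (g 1) (hg 1)).symm.surjective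
  haveI : Module.Flat A (LinearMap.ker q) := flat_ker_of_surjective hq
  let t := toKer E 0 1 (1 + 1)
  have ht : LinearMap.range t = LinearMap.ker q := by
    ext x
    obtain ⟨z, rfl⟩ := (hg 1).2 x
    have hx : q (g 1 z) = E.homologyπ 1 z :=
      congrArg (E.homologyπ 1).hom ((LinearEquiv.ofBijective (g 1) (hg 1)).symm_apply_apply z)
    rw [LinearMap.mem_ker, hx, homologyπ_eq_zero_iff (K := E) (i := 0) (by simp) z]
    exact ⟨fun ⟨y, hy⟩ => ⟨y, congrArg Subtype.val hy⟩, fun ⟨y, hy⟩ => ⟨y, Subtype.ext hy⟩⟩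
  haveI : Module.Flat A (LinearMap.range t) := Module.Flat.of_linearEquiv (LinearEquiv.ofEq _ _ ht)
  haveI := hF 0
  haveI : Module.Flat A (LinearMap.ker (cd E 0 (0 + 1))) := by
    have h := flat_ker_of_surjective t.surjective_rangeRestrict
    rwa [LinearMap.ker_rangeRestrict, ker_toKer] at h
  have hπ : Function.Bijective (E.homologyπ 0).hom := by
    refine ⟨(injective_iff_map_eq_zero _).2 fun z hz => ?_, homologyπ_surjective E 0⟩
    obtain ⟨y, hy⟩ := (homologyπ_eq_zero_iff (K := E) (i := -1) (by simp) z).1 hz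
    haveI := ModuleCat.subsingleton_of_isZero h0
    refine iCycles_injective E 0 ?_
    rw [← hy, Subsingleton.elim y 0, map_zero, map_zero]
  exact Module.Flat.of_linearEquiv
    ((LinearEquiv.ofBijective _ hπ).symm.trans (LinearEquiv.ofBijective (g 0) (hg 0)))

/-- `H⁰` of a flat quasi-coherent module is flat when `H¹` is flat and the higher cohomology vanishes. -/
theorem flat_HH_zero {A : Type u} [CommRing A] {X : Scheme.{u}} [X.Over (Spec (CommRingCat.of A))]
    [X.IsSeparated] [CompactSpace X] {F : X.Modules} (hF : Coh.IsQCoh F)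
    (hfl : FlatMod.IsFlatOver (X ↘ Spec (CommRingCat.of A)) F)
    (hvan : ∀ p : ℕ, 1 < p → Subsingleton (Coh.HH X F p)) (h1 : Module.Flat A (Coh.HH X F 1)) :
    Module.Flat A (Coh.HH X F 0) := by
  obtain ⟨ι, _, U, hcov, hU₀⟩ := exists_finite_affine_cover X
  have hU := isAffineOpen_tupOpen (U := U) hU₀
  obtain ⟨d, hd⟩ := exists_vanishing_bound_compact (X := X) (U := (⊤ : X.Opens)) isCompact_univ
  have hu : ∀ i, (d : ℤ) < i → UnivExactAt (K A U F) i := fun i hi => univExactAt_K hcov hU hF hd i hi.le
  have hac : ∀ p : ℤ, 1 < p → (K A U F).ExactAt p := fun p hp => by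
    obtain ⟨n, rfl⟩ := Int.eq_ofNat_of_zero_le (show (0 : ℤ) ≤ p by omega)
    haveI := hvan n (by omega)
    rw [exactAt_iff_subsingleton]
    exact (hhEquiv (A := A) hcov (acyc_of_isQCoh hF hU) n).toEquiv.subsingleton
  haveI := flat_homology_zero (flat_K hU hF hfl) hu hac (isZero_K_of_neg A U F _ (by norm_num))
    (Module.Flat.of_linearEquiv (hhEquiv (A := A) hcov (acyc_of_isQCoh hF hU) 1))
  exact Module.Flat.of_linearEquiv (hhEquiv (A := A) hcov (acyc_of_isQCoh hF hU) 0).symm

end Groth.Agent.H0Proj1
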